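import Cfsg.Agent.TwoRegSizes.Basic
import Cfsg.Agent.Coprime.SchurZassenhaus
import Cfsg.Agent.S0205

/-!
A coprime fixed-point lemma, and the normalizer of a centralizer with two outside primes.
-/

set_option autoImplicit false
set_option linter.unusedSectionVars false

namespace Cfsg.Agent.ItoThree

open Subgroup
open Cfsg.Agent.TwoClassSizes.Normal (mem_cent self_mem_cent mem_cent_symm conj_mem_center)
open Cfsg.Agent.TwoRegSizes (PEl Reg)

universe u

theorem exists_fixed {A : Type u} [CommGroup A] [Finite A] {t : ℕ} [Fact t.Prime] (hA : IsPGroup t A)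
    (D : Subgroup (MulAut A)) (γ : MulAut A) (hγ : γ ∈ normalizer (D : Set (MulAut A)))
    (hγt : ∃ k, γ ^ t ^ k = 1) (hD : ¬ t ∣ Nat.card D) (Z₀ : Subgroup A)
    (hfix : ∀ d ∈ D, ∀ z ∈ Z₀, d z = z) (hZ : ∀ a, (∀ d ∈ D, d a = a) → a ∈ Z₀) (hne : Z₀ ≠ ⊤) :
    ∃ a, γ a = a ∧ a ∉ Z₀ := by
  classical
  have : Fintype D := Fintype.ofFinite D
  have hcop : ∀ a : A, (orderOf a).Coprime (Nat.card D) := by
    intro a
    obtain ⟨k, hk⟩ := IsPGroup.iff_orderOf.1 hA a
    rw [hk]
    exact Nat.Coprime.pow_left k ((Nat.Prime.coprime_iff_not_dvd Fact.out).2 hD)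
  let f : A →* A :=
    { toFun := fun a => ∏ d : D, (d : MulAut A) a
      map_one' := by simp
      map_mul' := fun a b => by simp [Finset.prod_mul_distrib] }
  have hf : ∀ a, f a ∈ Z₀ := by
    intro a
    refine hZ _ fun e he => ?_
    show e (∏ d : D, (d : MulAut A) a) = _
    rw [map_prod]
    exact Fintype.prod_equiv (Equiv.mulLeft (⟨e, he⟩ : D)) _ _ fun d => rfl
  have hfz : ∀ z ∈ Z₀, f z = z ^ Nat.card D := by
    intro z hz
    show ∏ d : D, (d : MulAut A) z = _
    rw [Finset.prod_congr rfl fun (d : D) _ => hfix _ d.property z hz, Finset.prod_const, Finset.card_univ,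
      Fintype.card_eq_nat_card]
  have hγf : ∀ a, γ (f a) = f (γ a) := by
    intro a
    show γ (∏ d : D, (d : MulAut A) a) = ∏ d : D, (d : MulAut A) (γ a)
    rw [map_prod]
    refine Fintype.prod_equiv
      { toFun := fun d : D => (⟨γ * d * γ⁻¹, (mem_normalizer_iff.1 hγ _).1 d.2⟩ : D)
        invFun := fun d : D => (⟨γ⁻¹ * d * γ, by
          simpa using (mem_normalizer_iff.1 (inv_mem hγ) _).1 d.2⟩ : D)
        left_inv := fun d => Subtype.ext (by group)
        right_inv := fun d => Subtype.ext (by group) } _ _ fun d => ?_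
    show γ ((d : MulAut A) a) = (γ * (d : MulAut A) * γ⁻¹) (γ a)
    simp
  set K := f.ker
  -- the kernel is nontrivial
  obtain ⟨a, ha⟩ : ∃ a, a ∉ Z₀ := by
    by_contra h
    push Not at h
    exact hne (eq_top_iff.2 fun a _ => h a)
  have hroot : ∀ a : A, a ^ Nat.card D ∈ Z₀ → a ∈ Z₀ := by
    intro a h
    obtain ⟨j, hj⟩ := exists_pow_eq_self_of_coprime (hcop a).symm
    exact hj ▸ pow_mem h j
  set b := a ^ Nat.card D * (f a)⁻¹ with hb
  have hbK : b ∈ K := by
    rw [MonoidHom.mem_ker, hb, map_mul, map_inv, map_pow, hfz _ (hf a), mul_inv_cancel]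
  have hb1 : b ≠ 1 := fun e => ha (hroot a ((mul_inv_eq_one.1 e) ▸ hf a))
  -- a fixed point in the kernel
  have : Fact t.Prime := inferInstance
  let P := zpowers γ
  have hP : IsPGroup t P := by
    obtain ⟨k, hk⟩ := hγt
    rintro ⟨x, hx⟩
    obtain ⟨i, rfl⟩ := mem_zpowers_iff.1 hx
    refine ⟨k, Subtype.ext ?_⟩
    show (γ ^ i) ^ t ^ k = 1
    rw [← zpow_natCast, ← zpow_mul, mul_comm, zpow_mul, zpow_natCast, hk, one_zpow]
  have hstab : ∀ x ∈ P, ∀ c ∈ K, (x : MulAut A) c ∈ K := by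
    intro x hx
    obtain ⟨i, rfl⟩ := mem_zpowers_iff.1 hx
    induction i using Int.induction_on with
    | zero => intro c hc; simpa using hc
    | succ j ih =>
      intro c hc
      rw [zpow_add_one, MulAut.mul_apply]
      refine ih ⟨_, rfl⟩ _ ?_
      rw [MonoidHom.mem_ker, ← hγf, MonoidHom.mem_ker.1 hc, map_one]
    | pred j ih =>
      intro c hc
      rw [zpow_sub_one, MulAut.mul_apply]
      refine ih ⟨_, rfl⟩ _ ?_
      rw [MonoidHom.mem_ker]
      refine γ.injective ?_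
      rw [hγf, MulAut.apply_inv_self, map_one]
      exact hc
  let : MulAction P K :=
    { smul := fun x c => ⟨(x : MulAut A) c, hstab x x.2 c c.2⟩
      one_smul := fun c => Subtype.ext rfl
      mul_smul := fun x y c => Subtype.ext rfl }
  have hdvd : t ∣ Nat.card K := by
    obtain ⟨i, hi⟩ := IsPGroup.iff_card.1 (hA.to_subgroup K)
    rcases Nat.eq_zero_or_pos i with h0 | h0
    · rw [h0, pow_zero] at hi
      have := Nat.card_eq_one_iff_unique.1 hi
      exact absurd (congrArg Subtype.val (this.1.elim ⟨b, hbK⟩ 1)) hb1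
    · rw [hi]; exact dvd_pow_self t h0.ne'
  have h1 : (1 : K) ∈ MulAction.fixedPoints P K := fun x => Subtype.ext (map_one (x : MulAut A))
  obtain ⟨c, hc, hc1⟩ := hP.exists_fixed_point_of_prime_dvd_card_of_fixed_point (α := K) hdvd h1
  refine ⟨c, congrArg Subtype.val (hc ⟨γ, mem_zpowers γ⟩), fun hcZ => hc1 ?_⟩
  refine Subtype.ext ?_
  have h2 : f (c : A) = 1 := c.2
  rw [hfz _ hcZ] at h2
  exact (orderOf_eq_one_iff.1 (Nat.eq_one_of_dvd_coprimes (hcop _) dvd_rfl
    (orderOf_dvd_of_pow_eq_one h2))).symm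

variable {G : Type u} [Group G] [Finite G] {C : Subgroup G} {r s t : ℕ}

local notation "C[" x "]" => Subgroup.centralizer ({x} : Set _)

/-- The noncentral `t`-elements of `C` have centralizer `C`. -/
def CentOn (t : ℕ) (C : Subgroup G) : Prop :=
  ∀ v ∈ C, v ∉ center G → PEl t v → C[v] = C

theorem CentOn.commute (hC : CentOn t C) {v w : G} (hv : v ∈ C) (hvt : PEl t v) (hw : w ∈ C) :
    Commute v w := by
  by_cases hvZ : v ∈ center G
  · exact (mem_center_iff.1 hvZ w).symm
  · exact (mem_cent.1 (show w ∈ C[v] by rw [hC v hv hvZ hvt]; exact hw)).symm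

/-- The subgroup of the `t`-elements of `C`. -/
def tPart (hC : CentOn t C) : Subgroup G where
  carrier := {v | v ∈ C ∧ PEl t v}
  one_mem' := ⟨one_mem C, PEl.one⟩
  mul_mem' := fun ha hb => ⟨mul_mem ha.1 hb.1, PEl.mul (hC.commute ha.1 ha.2 hb.1) ha.2 hb.2⟩
  inv_mem' := fun ha => ⟨inv_mem ha.1, PEl.inv ha.2⟩

theorem mem_tPart {hC : CentOn t C} {v : G} : v ∈ tPart hC ↔ v ∈ C ∧ PEl t v := Iff.rfl

theorem normalizer_le_tPart (hC : CentOn t C) {y : G} (hy : y ∈ normalizer (C : Set G)) :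
    y ∈ normalizer (tPart hC : Set G) := by
  refine mem_normalizer_iff.2 fun v => ?_
  simp only [mem_tPart]
  constructor
  · rintro ⟨h1, h2⟩
    exact ⟨(mem_normalizer_iff.1 hy v).1 h1, h2.conj y⟩
  · rintro ⟨h1, h2⟩
    refine ⟨(mem_normalizer_iff.1 hy v).2 h1, ?_⟩
    simpa [mul_assoc] using h2.conj y⁻¹

theorem exists_outside [Fact t.Prime] (hC : CentOn t C) (hv : ∃ v ∈ C, v ∉ center G ∧ PEl t v)
    (hd : t ∣ C.index) : ∃ g ∈ normalizer (C : Set G), g ∉ C ∧ PEl t g := by
  obtain ⟨v, hvC, hvZ, hvt⟩ := hv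
  set T := tPart hC
  obtain ⟨R, hR⟩ := (TwoRegSizes.isPGroup_of_pel (H := T) fun g hg => hg.2).exists_le_sylow
  have hlt : T.subgroupOf R < ⊤ := by
    refine lt_top_iff_ne_top.2 fun e => R.not_dvd_index (hd.trans (index_dvd_of_le ?_))
    exact fun g hg => ((subgroupOf_eq_top.1 e) hg).1
  have := R.isPGroup'.isNilpotent
  obtain ⟨g, hg, hgT⟩ := SetLike.exists_of_lt (normalizerCondition_of_isNilpotent _ hlt)
  have hgT' : (g : G) ∈ normalizer (T : Set G) := by
    refine mem_normalizer_iff.2 fun a => ⟨fun ha => ?_, fun ha => ?_⟩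
    · exact mem_subgroupOf.1 ((mem_normalizer_iff.1 hg ⟨a, hR ha⟩).1 ha)
    · have h1 : a ∈ (R : Subgroup G) := by
        have := mul_mem (mul_mem (inv_mem g.2) (hR ha)) g.2
        simpa [mul_assoc] using this
      exact mem_subgroupOf.1 ((mem_normalizer_iff.1 hg ⟨a, h1⟩).2 ha)
  have hgt : PEl t (g : G) := TwoRegSizes.pel_of_mem R.isPGroup' g.2
  refine ⟨g, ?_, fun hgC => hgT (mem_subgroupOf.2 ⟨hgC, hgt⟩), hgt⟩
  have hw := (mem_normalizer_iff.1 hgT' v).1 ⟨hvC, hvt⟩
  have e1 : C[(g : G) * v * (g : G)⁻¹] = C := hC _ hw.1 (mt conj_mem_center.1 hvZ) hw.2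
  refine mem_normalizer_iff.2 fun a => ?_
  have h := TwoClassSizes.Normal.mem_cent_conj (g := (g : G)) (x := v) (u := a)
  rw [e1, hC v hvC hvZ hvt] at h
  exact h.symm

/-- No subgroup between `C` and its normalizer of relative index prime to `t` is normalized by an
outside `t`-element. -/
theorem false_of_normal [Fact t.Prime] (hC : CentOn t C) (hv : ∃ v ∈ C, v ∉ center G ∧ PEl t v)
    {Y : Subgroup G} (hYN : Y ≤ normalizer (C : Set G)) (hYC : ¬ Y ≤ C)
    (hY : ¬ t ∣ C.relIndex Y) {g : G} (hgN : g ∈ normalizer (C : Set G)) (hgY : g ∈ normalizer (Y : Set G))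
    (hgC : g ∉ C) (hgt : PEl t g) : False := by
  set T := tPart hC
  have : IsMulCommutative T :=
    ⟨⟨fun a b => Subtype.ext (hC.commute a.2.1 a.2.2 b.2.1).eq⟩⟩
  open scoped IsMulCommutative in
  let ψ : normalizer (C : Set G) →* MulAut T :=
    (normalizerMonoidHom T).comp (Subgroup.inclusion fun y hy => normalizer_le_tPart hC hy)
  have hψ : ∀ (y : normalizer (C : Set G)) (a : T), ((ψ y a : T) : G) = (y : G) * a * (y : G)⁻¹ :=
    fun y a => rfl
  have hker : C.subgroupOf (normalizer (C : Set G)) ≤ ψ.ker := by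
    intro y hy
    refine MonoidHom.mem_ker.2 (MulEquiv.ext fun a => Subtype.ext ?_)
    rw [hψ, MulAut.one_apply, ← (hC.commute a.2.1 a.2.2 (mem_subgroupOf.1 hy)).eq, mul_inv_cancel_right]
  set Y' := Y.subgroupOf (normalizer (C : Set G))
  set D := Y'.map ψ
  have hcard : ¬ t ∣ Nat.card D := by
    refine fun h => hY ((h.trans (dvd_of_eq ?_)).trans
      ((relIndex_dvd_of_le_left Y' hker).trans (dvd_of_eq (relIndex_subgroupOf hYN))))
    rw [relIndex_ker]
  set γ := ψ ⟨g, hgN⟩
  have hγ : γ ∈ normalizer (D : Set (MulAut T)) := by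
    refine le_normalizer_map ψ (mem_map_of_mem ψ ?_)
    refine mem_normalizer_iff.2 fun a => ?_
    exact mem_normalizer_iff.1 hgY (a : G)
  have hγt : ∃ k, γ ^ t ^ k = 1 := by
    obtain ⟨k, hk⟩ := hgt
    refine ⟨k, ?_⟩
    rw [← map_pow, show (⟨g, hgN⟩ : normalizer (C : Set G)) ^ t ^ k = 1 from
      Subtype.ext (orderOf_dvd_iff_pow_eq_one.1 hk), map_one]
  have hA : IsPGroup t T := TwoRegSizes.isPGroup_of_pel fun a ha => ha.2
  open scoped IsMulCommutative in
  obtain ⟨a, ha, haZ⟩ := exists_fixed hA D γ hγ hγt hcard ((center G).subgroupOf T)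
    (by
      rintro _ ⟨y, -, rfl⟩ z hz
      refine Subtype.ext ?_
      rw [hψ, mem_center_iff.1 (mem_subgroupOf.1 hz) y, mul_inv_cancel_right])
    (fun a ha => by
      rw [mem_subgroupOf]
      by_contra haZ
      refine hYC fun y hy => ?_
      rw [← hC a a.2.1 haZ a.2.2, mem_cent]
      have := congrArg Subtype.val (ha _ (mem_map_of_mem ψ (show (⟨y, hYN hy⟩ : normalizer (C : Set G)) ∈ Y' from hy)))
      rw [hψ] at this
      exact mul_inv_eq_iff_eq_mul.1 this)
    (by
      obtain ⟨v, hvC, hvZ, hvt⟩ := hv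
      exact fun e => hvZ (mem_subgroupOf.1 (e ▸ mem_top (⟨v, hvC, hvt⟩ : T))))
  refine hgC ?_
  rw [← hC a a.2.1 (fun h => haZ (mem_subgroupOf.2 h)) a.2.2, mem_cent]
  have := congrArg Subtype.val ha
  rw [hψ] at this
  exact mul_inv_eq_iff_eq_mul.1 this

/-- The normalizer of `C` has no outside elements for two primes. -/
theorem false_of_two_primes (hr : r.Prime) (hs : s.Prime) (hne : r ≠ s)
    (hCr : CentOn r C) (hvr : ∃ v ∈ C, v ∉ center G ∧ PEl r v)
    (hgr : ∃ g ∈ normalizer (C : Set G), g ∉ C ∧ PEl r g)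
    (hCs : CentOn s C) (hvs : ∃ v ∈ C, v ∉ center G ∧ PEl s v)
    (hgs : ∃ g ∈ normalizer (C : Set G), g ∉ C ∧ PEl s g) : False := by
  have := Fact.mk hr
  have := Fact.mk hs
  set N := normalizer (C : Set G) with hN
  set C' := C.subgroupOf N
  have hC'n : C'.Normal := normal_subgroupOf_of_le_normalizer le_rfl
  have hCN : C ≤ N := le_normalizer
  -- no normal subgroup of the quotient has order prime to one of the two primes
  have key : ∀ (W : Subgroup (N ⧸ C')) [W.Normal], W ≠ ⊥ →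
      r ∣ Nat.card W ∧ s ∣ Nat.card W := by
    intro W _ hW
    set Y := (W.comap (QuotientGroup.mk' C')).map N.subtype
    have hYN : Y ≤ N := map_subtype_le _
    have hYC : ¬ Y ≤ C := by
      intro h
      refine hW (eq_bot_iff.2 fun w hw => ?_)
      obtain ⟨y, rfl⟩ := QuotientGroup.mk'_surjective C' w
      rw [mem_bot, QuotientGroup.mk'_apply, QuotientGroup.eq_one_iff]
      exact mem_subgroupOf.2 (h (mem_map_of_mem N.subtype hw))
    have hrel : C.relIndex Y = Nat.card W := by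
      have e1 : Y.subgroupOf N = W.comap (QuotientGroup.mk' C') :=
        comap_map_eq_self_of_injective N.subtype_injective _
      rw [← relIndex_subgroupOf hYN, e1, ← relIndex_bot_left W]
      have h := relIndex_comap (⊥ : Subgroup (N ⧸ C')) (QuotientGroup.mk' C') (W.comap (QuotientGroup.mk' C'))
      rw [MonoidHom.comap_bot, QuotientGroup.ker_mk', map_comap_eq_self_of_surjective (QuotientGroup.mk'_surjective C')] at h
      exact h
    have hnor : ∀ g ∈ N, g ∈ normalizer (Y : Set G) := fun g hg =>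
      le_normalizer_map N.subtype (mem_map_of_mem N.subtype
        (show (⟨g, hg⟩ : N) ∈ normalizer (W.comap (QuotientGroup.mk' C') : Set N) by
          rw [normalizer_eq_top]; exact mem_top _))
    constructor
    · by_contra hd
      obtain ⟨g, hg, hgC, hgt⟩ := hgr
      exact false_of_normal hCr hvr hYN hYC (hrel ▸ hd) hg (hnor g hg) hgC hgt
    · by_contra hd
      obtain ⟨g, hg, hgC, hgt⟩ := hgs
      exact false_of_normal hCs hvs hYN hYC (hrel ▸ hd) hg (hnor g hg) hgC hgt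
  -- a normal subgroup of prime power order
  have noP : ∀ (l : ℕ) (W : Subgroup (N ⧸ C')) [W.Normal], l.Prime → IsPGroup l W → W = ⊥ := by
    intro l W _ hl hW
    by_contra hne'
    have := Fact.mk hl
    obtain ⟨i, hi⟩ := IsPGroup.iff_card.1 hW
    obtain ⟨h1, h2⟩ := key W hne'
    rw [hi] at h1 h2
    exact hne (((Nat.prime_dvd_prime_iff_eq hr hl).1 (hr.dvd_of_dvd_pow h1)).trans
      ((Nat.prime_dvd_prime_iff_eq hs hl).1 (hs.dvd_of_dvd_pow h2)).symm)
  rcases Nat.even_or_odd (Nat.card (N ⧸ C')) with hev | hodd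
  swap
  · obtain ⟨g, hg, hgC, -⟩ := hgr
    have : Nontrivial (N ⧸ C') := ⟨⟨(⟨g, hg⟩ : N), 1, fun e =>
      hgC (mem_subgroupOf.1 ((QuotientGroup.eq_one_iff _).1 e))⟩⟩
    have := S0205.result hodd
    obtain ⟨l, hl, W, hWn, hWl, hW1⟩ := Coprime.exists_normal_isPGroup (G := N ⧸ C')
    exact hW1 (noP l W hl hWl)
  -- the odd one of the two primes
  obtain ⟨t, ht, ht2, hCt, hvt, htrs⟩ : ∃ t, t.Prime ∧ t ≠ 2 ∧ CentOn t C ∧
      (∃ v ∈ C, v ∉ center G ∧ PEl t v) ∧ (t = r ∨ t = s) := by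
    rcases eq_or_ne r 2 with h2 | h2
    · exact ⟨s, hs, fun h => hne (h2.trans h.symm), hCs, hvs, Or.inr rfl⟩
    · exact ⟨r, hr, h2, hCr, hvr, Or.inl rfl⟩
  have := Fact.mk ht
  set T := tPart hCt
  -- the elements acting trivially modulo the centre
  have hTn : ∀ y ∈ N, ∀ v ∈ T, y * v * y⁻¹ ∈ T := fun y hy v hv =>
    (mem_normalizer_iff.1 (normalizer_le_tPart hCt hy) v).1 hv
  let K : Subgroup N :=
    { carrier := {y | ∀ v ∈ T, (y : G) * v * (y : G)⁻¹ * v⁻¹ ∈ center G}
      one_mem' := fun v _ => by simp [one_mem]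
      mul_mem' := by
        intro a b ha hb v hv
        have h := mul_mem (ha _ (hTn b b.2 v hv)) (hb v hv)
        convert h using 1
        push_cast
        group
      inv_mem' := by
        intro a ha v hv
        have h := inv_mem (ha _ (hTn (a⁻¹ : N) (a⁻¹ : N).2 v hv))
        convert h using 1
        push_cast
        group }
  have hKn : K.Normal := by
    refine ⟨fun a ha y v hv => ?_⟩
    have h := (inferInstance : (center G).Normal).conj_mem _ (ha _ (hTn (y⁻¹ : N) (y⁻¹ : N).2 v hv)) (y : G)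
    convert h using 1
    push_cast
    group
  set W := K.map (QuotientGroup.mk' C') with hW
  have : W.Normal := hKn.map _ (QuotientGroup.mk'_surjective C')
  have hWbot : W = ⊥ := by
    refine noP t W ht ?_
    refine IsPGroup.iff_orderOf.2 fun w => ?_
    obtain ⟨y, hy, hyw⟩ := w.2
    set k := (orderOf w).factorization t
    set b := orderOf w / t ^ k
    have hb : ¬ t ∣ b := Nat.not_dvd_ordCompl ht (orderOf_pos w).ne'
    refine ⟨k, ?_⟩
    suffices hy' : y ^ t ^ k ∈ C' by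
      refine Nat.dvd_antisymm (orderOf_dvd_of_pow_eq_one (Subtype.ext ?_)) (Nat.ordProj_dvd _ _)
      rw [SubgroupClass.coe_pow, ← hyw, ← map_pow, OneMemClass.coe_one]
      exact (QuotientGroup.eq_one_iff _).2 hy'
    set e := y ^ t ^ k with he
    obtain ⟨v, hvC, hvZ, hvp⟩ := hvt
    have heb : e ^ b ∈ C' := by
      rw [← QuotientGroup.eq_one_iff (N := C'), he, ← pow_mul, Nat.ordProj_mul_ordCompl_eq_self]
      rw [show ((y ^ orderOf w : N) : N ⧸ C') = (QuotientGroup.mk' C' y) ^ orderOf w from map_pow (QuotientGroup.mk' C') y _, hyw,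
        ← SubgroupClass.coe_pow, pow_orderOf_eq_one, OneMemClass.coe_one]
    have hvT : v ∈ T := ⟨hvC, hvp⟩
    set c := (e : G) * v * (e : G)⁻¹ * v⁻¹ with hcdef
    have hcZ : c ∈ center G := (pow_mem hy (t ^ k) : y ^ t ^ k ∈ K) v hvT
    have hcT : c ∈ T := mul_mem (hTn e e.2 v hvT) (inv_mem hvT)
    have hit : ∀ i : ℕ, (e : G) ^ i * v * ((e : G) ^ i)⁻¹ = c ^ i * v := by
      intro i
      induction i with
      | zero => simp
      | succ i ih =>
        calc (e : G) ^ (i + 1) * v * ((e : G) ^ (i + 1))⁻¹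
            = e * ((e : G) ^ i * v * ((e : G) ^ i)⁻¹) * (e : G)⁻¹ := by rw [pow_succ']; group
          _ = e * (c ^ i * v) * (e : G)⁻¹ := by rw [ih]
          _ = c ^ i * ((e : G) * v * (e : G)⁻¹) := by
            rw [← mul_assoc (e : G), mem_center_iff.1 (pow_mem hcZ i) e]; group
          _ = c ^ (i + 1) * v := by rw [hcdef, pow_succ]; group
    have h1 := hit b
    rw [← SubgroupClass.coe_pow, ← (hCt.commute hvC hvp (mem_subgroupOf.1 heb)).eq,
      mul_inv_cancel_right, eq_comm, mul_eq_right] at h1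
    have hc1 : c = 1 := by
      obtain ⟨i, hi⟩ := hcT.2
      exact orderOf_eq_one_iff.1 (Nat.eq_one_of_dvd_coprimes
        (Nat.Coprime.pow_left i (ht.coprime_iff_not_dvd.2 hb)) hi (orderOf_dvd_of_pow_eq_one h1))
    refine mem_subgroupOf.2 ?_
    rw [← hCt v hvC hvZ hvp, mem_cent]
    exact mul_inv_eq_iff_eq_mul.1 (mul_inv_eq_one.1 hc1)
  obtain ⟨z, hz⟩ := exists_prime_orderOf_dvd_card' 2 hev.two_dvd
  obtain ⟨z₀, rfl⟩ := QuotientGroup.mk'_surjective C' z
  have hz2 : (z₀ : N) ^ 2 ∈ C' := by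
    rw [← QuotientGroup.eq_one_iff (N := C')]
    exact (map_pow (QuotientGroup.mk' C') z₀ 2).trans (hz ▸ pow_orderOf_eq_one _)
  have hz0 : z₀ ∉ C' := by
    intro h
    rw [QuotientGroup.mk'_apply, (QuotientGroup.eq_one_iff _).2 h, orderOf_one] at hz
    omega
  have hinv : ∀ v ∈ T, (z₀ : G) * v * (z₀ : G)⁻¹ * v ∈ center G := by
    intro v hv
    by_contra hw
    have hwT := mul_mem (hTn z₀ z₀.2 v hv) hv
    refine hz0 (mem_subgroupOf.2 ?_)
    rw [← hCt _ hwT.1 hw hwT.2, mem_cent]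
    have h2 : (z₀ : G) * z₀ * v = v * ((z₀ : G) * z₀) := by
      have := (hCt.commute hv.1 hv.2 (mem_subgroupOf.1 hz2)).eq.symm
      simpa [pow_two] using this
    have h3 : Commute v ((z₀ : G) * v * (z₀ : G)⁻¹) :=
      hCt.commute hv.1 hv.2 (hTn z₀ z₀.2 v hv).1
    rw [← h3.eq]
    calc (z₀ : G) * (v * ((z₀ : G) * v * (z₀ : G)⁻¹))
        = z₀ * v * (z₀ : G)⁻¹ * ((z₀ : G) * z₀ * v) * (z₀ : G)⁻¹ := by group
      _ = z₀ * v * (z₀ : G)⁻¹ * (v * ((z₀ : G) * z₀)) * (z₀ : G)⁻¹ := by rw [h2]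
      _ = z₀ * v * (z₀ : G)⁻¹ * v * z₀ := by group
      _ = v * ((z₀ : G) * v * (z₀ : G)⁻¹) * z₀ := by rw [h3.eq]
  -- the involution is central in the quotient
  have hcent : QuotientGroup.mk' C' z₀ ∈ center (N ⧸ C') := by
    refine mem_center_iff.2 fun x => ?_
    obtain ⟨y, rfl⟩ := QuotientGroup.mk'_surjective C' x
    have hmem : z₀⁻¹ * y⁻¹ * z₀ * y ∈ K := by
      intro v hv
      -- conjugation by `z₀` inverts modulo the centre
      have hu := hTn y y.2 v hv
      have hu' := hTn z₀ z₀.2 _ hu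
      have hu'' := hTn (y⁻¹ : N) (y⁻¹ : N).2 _ hu'
      have a1 := hinv _ hu
      have a2 := (inferInstance : (center G).Normal).conj_mem _ a1 ((y : G))⁻¹
      -- `a2` says that `y⁻¹ z₀ y` inverts `v` modulo the centre
      set v' := (y : G)⁻¹ * ((z₀ : G) * ((y : G) * v * (y : G)⁻¹) * (z₀ : G)⁻¹) * ((y : G)⁻¹)⁻¹ with hv'
      have hv'T : v' ∈ T := by simpa [hv'] using hu''
      have a2' : v' * v ∈ center G := by
        convert a2 using 1
        rw [hv']
        group
      have b1 := hTn (z₀⁻¹ : N) (z₀⁻¹ : N).2 v' hv'T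
      set v'' := (z₀ : G)⁻¹ * v' * ((z₀ : G)⁻¹)⁻¹ with hv''
      have hv''T : v'' ∈ T := by simpa [hv''] using b1
      have a3 : v' * v'' ∈ center G := by
        have := hinv v'' hv''T
        convert this using 1
        rw [hv'']
        group
      -- so `v''` is congruent to `v`
      have e : v'' * v⁻¹ = (v' * v)⁻¹ * (v' * v'') := by
        have c1 : Commute v v'' := hCt.commute hv.1 hv.2 hv''T.1
        rw [c1.symm.inv_right.eq]
        group
      have := mul_mem (inv_mem a2') a3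
      rw [← e] at this
      convert this using 1
      rw [hv'', hv']
      push_cast
      group
    have h1 : QuotientGroup.mk' C' (z₀⁻¹ * y⁻¹ * z₀ * y) = 1 := by
      rw [← mem_bot, ← hWbot]
      exact mem_map_of_mem _ hmem
    rw [map_mul, map_mul, map_mul, map_inv, map_inv] at h1
    calc QuotientGroup.mk' C' y * QuotientGroup.mk' C' z₀
        = QuotientGroup.mk' C' y * QuotientGroup.mk' C' z₀ * ((QuotientGroup.mk' C' z₀)⁻¹ *
            (QuotientGroup.mk' C' y)⁻¹ * QuotientGroup.mk' C' z₀ * QuotientGroup.mk' C' y) := by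
          rw [h1, mul_one]
      _ = QuotientGroup.mk' C' z₀ * QuotientGroup.mk' C' y := by group
  have : (zpowers (QuotientGroup.mk' C' z₀)).Normal := ⟨fun x hx g => by
    rw [mem_center_iff.1 (zpowers_le.2 hcent hx) g, mul_inv_cancel_right]; exact hx⟩
  have h2 : IsPGroup 2 (zpowers (QuotientGroup.mk' C' z₀)) :=
    IsPGroup.of_card (n := 1) (by rw [Nat.card_zpowers, hz, pow_one])
  have h3 := noP 2 _ Nat.prime_two h2
  rw [zpowers_eq_bot, ← orderOf_eq_one_iff, hz] at h3
  omega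

end Cfsg.Agent.ItoThree
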