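import Cfsg.Agent.S4033
import Cfsg.Agent.Core.KegelWielandt
import Cfsg.Agent.SubA8.Basic
import Cfsg.Agent.ItoThree.Act

/-!
Groups with three class sizes: consequences of the two-size theorem for regular elements.
-/

set_option autoImplicit false
set_option linter.unusedSectionVars false

namespace Cfsg.Agent.ItoThree

open Subgroup
open Cfsg.Agent.TwoClassSizes.Normal (mem_cent self_mem_cent mem_cent_symm conj_mem_center)
open Cfsg.Agent.TwoRegSizes (PEl Reg)

universe u

variable {G : Type u} [Group G] [Finite G] {p q r : ℕ} {x y : G}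

local notation "C[" x "]" => Subgroup.centralizer ({x} : Set _)

theorem mem_zpowers_mul (hxy : Commute x y) (hc : (orderOf x).Coprime (orderOf y)) :
    x ∈ zpowers (x * y) := by
  obtain ⟨i, hi1, hi2⟩ := Nat.chineseRemainder hc 1 0
  refine ⟨(i : ℤ), ?_⟩
  show (x * y) ^ (i : ℤ) = x
  rw [zpow_natCast, hxy.mul_pow, pow_eq_pow_iff_modEq.mpr hi1, pow_eq_pow_iff_modEq.mpr hi2]
  simp

theorem cent_mul (hxy : Commute x y) (hc : (orderOf x).Coprime (orderOf y)) :
    C[x * y] = C[x] ⊓ C[y] := by
  refine le_antisymm (le_inf (TwoClassSizes.centralizer_le_of_mem_zpowers (mem_zpowers_mul hxy hc))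
    (TwoClassSizes.centralizer_le_of_mem_zpowers (hxy.eq ▸ mem_zpowers_mul hxy.symm hc.symm))) ?_
  rintro g ⟨hgx, hgy⟩
  exact mem_cent.2 ((show Commute g x from mem_cent.1 hgx).mul_right (mem_cent.1 hgy)).eq

theorem mul_not_mem_center (hxy : Commute x y) (hc : (orderOf x).Coprime (orderOf y))
    (hx : x ∉ center G) : x * y ∉ center G :=
  fun hz => hx (zpowers_le.2 hz (mem_zpowers_mul hxy hc))

theorem exists_part {K : Subgroup G} {g : G} (hg : g ∉ K) :
    ∃ r, r.Prime ∧ ∃ w ∈ zpowers g, PEl r w ∧ w ∉ K := by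
  by_contra hcon
  push Not at hcon
  exact hg (TwoClassSizes.le_of_primePow_mem (H := zpowers g) (K := K)
    (fun w hw r hr hk => hcon r hr w hw hk) (mem_zpowers g))

theorem index_cent_eq_one {g : G} : C[g].index = 1 ↔ g ∈ center G := by
  rw [index_eq_one, centralizer_eq_top_iff_subset, Set.singleton_subset_iff, SetLike.mem_coe]

theorem card_eq_of_index (h : C[x].index = C[y].index) : Nat.card C[x] = Nat.card C[y] := by
  have h1 := C[x].card_mul_index
  have h2 := C[y].card_mul_index
  rw [h, ← h2] at h1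
  exact Nat.eq_of_mul_eq_mul_right (Nat.pos_of_ne_zero index_ne_zero_of_finite) h1

theorem eq_of_le_of_index (hle : C[x] ≤ C[y]) (h : C[x].index = C[y].index) : C[x] = C[y] :=
  eq_of_le_of_card_ge hle (card_eq_of_index h).ge

/-- An element of a centralizer with at least the same `r`-part as another one. -/
theorem exists_noncentral_part [hr : Fact r.Prime] {a : G} (ha : PEl r a) (haZ : a ∉ center G)
    {H : Subgroup G} (haH : a ∈ H) (hH : center G ≤ H)
    (h : (Nat.card H).factorization r ≤ (Nat.card C[x]).factorization r) :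
    ∃ w ∈ C[x], w ∉ center G ∧ PEl r w := by
  by_contra hcon
  push Not at hcon
  obtain ⟨W⟩ := (inferInstance : Nonempty (Sylow r C[x]))
  set W' := (W : Subgroup C[x]).map C[x].subtype with hW'
  have hW'Z : W' ≤ center G := fun t ht => by
    by_contra htZ
    exact hcon t (map_subtype_le _ ht) htZ (TwoRegSizes.pel_of_mem (W.isPGroup'.map _) ht)
  have : W'.Normal := ⟨fun z hz g => by
    rw [mem_center_iff.1 (hW'Z hz) g, mul_inv_cancel_right]; exact hz⟩
  have hSp : IsPGroup r (W' ⊔ zpowers a : Subgroup G) :=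
    (W.isPGroup'.map _).to_sup_of_normal_left (TwoClassSizes.Normal.isPGroup_zpowers ha)
  obtain ⟨i, hi⟩ := IsPGroup.iff_card.1 hSp
  have hlt : Nat.card W' < Nat.card (W' ⊔ zpowers a : Subgroup G) :=
    lt_of_le_of_ne (card_le_of_le le_sup_left) fun e =>
      haZ (hW'Z ((eq_of_le_of_card_ge le_sup_left e.ge).ge (mem_sup_right (mem_zpowers a))))
  have hle : W' ⊔ zpowers a ≤ H := sup_le (hW'Z.trans hH) (zpowers_le.2 haH)
  have h1 : i ≤ (Nat.card H).factorization r :=
    (hr.out.pow_dvd_iff_le_factorization Nat.card_pos.ne').1 (hi ▸ card_dvd_of_le hle)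
  have h2 : Nat.card (W' ⊔ zpowers a : Subgroup G) ∣ Nat.card W' := by
    rw [hi, hW', card_map_of_injective C[x].subtype_injective, W.card_eq_multiplicity]
    exact pow_dvd_pow r (h1.trans h)
  exact absurd (Nat.le_of_dvd Nat.card_pos h2) (by omega)

/-- The index of the center involves at most two primes: solvable. -/
theorem isSolvable_of_center_index (hp : p.Prime) (hq : q.Prime)
    (h : ∀ s, s.Prime → s ∣ (center G).index → s = p ∨ s = q) : Group.IsSolvable G := by
  have : Group.IsSolvable (G ⧸ center G) := by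
    set N := Nat.card (G ⧸ center G)
    refine SubA8.solvable_two_primes p q hp hq (a := N) (b := N) ?_
    refine (Nat.dvd_iff_prime_pow_dvd_dvd _ _).2 fun s k hs hsk => ?_
    rcases Nat.eq_zero_or_pos k with rfl | hk
    · simp
    have hkN : k ≤ N := ((Nat.lt_pow_self hs.one_lt).le).trans (Nat.le_of_dvd Nat.card_pos hsk)
    rcases h s hs ((dvd_pow_self s hk.ne').trans hsk) with rfl | rfl
    · exact (pow_dvd_pow _ hkN).trans (dvd_mul_right _ _)
    · exact (pow_dvd_pow _ hkN).trans (dvd_mul_left _ _)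
  have : Group.IsSolvable (center G) :=
    Group.isSolvable_of_comm fun a b => Subtype.ext (mem_center_iff.1 b.2 a)
  exact Group.isSolvable_of_ker_le_range (center G).subtype (QuotientGroup.mk' (center G))
    (by rw [QuotientGroup.ker_mk', range_subtype])

/-- The primes of the index of the center have noncentral elements. -/
theorem exists_pel_of_dvd_center_index {s : ℕ} (hs : s.Prime) (hd : s ∣ (center G).index) :
    ∃ g, PEl s g ∧ g ∉ center G := by
  by_contra hcon
  push Not at hcon
  have := Fact.mk hs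
  obtain ⟨S⟩ := (inferInstance : Nonempty (Sylow s G))
  exact S.not_dvd_index (hd.trans (index_dvd_of_le fun g hg => hcon g (TwoRegSizes.pel_of_mem S.isPGroup' hg)))

theorem carrier_range (hp : p.Prime) {ν : ℕ} (hν : ν ≠ 1) {x₀ : G} (hx₀ : Reg p x₀) (hxZ : x₀ ∉ center G)
    (h : ∀ x : G, Reg p x → x ∉ center G → C[x].index = ν) :
    Set.ncard (Set.range fun x : {x : G // (orderOf x).Coprime p} => (ConjClasses.mk (x : G)).carrier.ncard) = 2 := by
  refine Set.ncard_eq_two.2 ⟨1, ν, hν.symm, Set.ext fun j => ?_⟩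
  simp only [Set.mem_range, Set.mem_insert_iff, Set.mem_singleton_iff, S4034.carrier_ncard]
  constructor
  · rintro ⟨⟨x, hx⟩, rfl⟩
    by_cases hxc : x ∈ center G
    · exact Or.inl (index_cent_eq_one.2 hxc)
    · exact Or.inr (h x hx hxc)
  · rintro (rfl | rfl)
    · exact ⟨⟨1, Reg.one⟩, index_cent_eq_one.2 (one_mem _)⟩
    · exact ⟨⟨x₀, hx₀⟩, h x₀ hx₀ hxZ⟩

theorem isSolvable_of_regular (hp : p.Prime) {ν : ℕ}
    (h : ∀ x : G, Reg p x → x ∉ center G → C[x].index = ν) : Group.IsSolvable G := by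
  by_cases hall : ∀ x : G, Reg p x → x ∈ center G
  · refine isSolvable_of_center_index hp hp fun s hs hsd => Or.inl ?_
    by_contra hne
    obtain ⟨g, hg, hgZ⟩ := exists_pel_of_dvd_center_index hs hsd
    exact hgZ (hall g (hg.reg hs hp hne))
  push Not at hall
  obtain ⟨x₀, hx₀, hxZ⟩ := hall
  have hν : ν ≠ 1 := fun e => hxZ (index_cent_eq_one.1 ((h x₀ hx₀ hxZ).trans e))
  rcases S4033.result hp (carrier_range hp hν hx₀ hxZ h) with
    ⟨H, hHc, hpH, k, hk⟩ | ⟨q, hqf, P, Q, A, -, hAZ, hcard, hn, hinf, hsup⟩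
  · have := Fact.mk hp
    obtain ⟨P⟩ := (inferInstance : Nonempty (Sylow p G))
    obtain ⟨i, hi⟩ := IsPGroup.iff_card.1 P.isPGroup'
    have hik : Nat.card (P : Subgroup G) = p ^ k := by
      rw [P.card_eq_multiplicity, ← H.card_mul_index, hk,
        Nat.factorization_mul Nat.card_pos.ne' (pow_ne_zero k hp.ne_zero), Finsupp.add_apply,
        Nat.factorization_eq_zero_of_not_dvd hpH, hp.factorization_pow, Finsupp.single_eq_same, zero_add]
    have hcop : (Nat.card (P : Subgroup G)).Coprime (Nat.card H) := by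
      rw [hik]
      exact Nat.Coprime.pow_left k (hp.coprime_iff_not_dvd.2 hpH)
    have hcpl : IsComplement' (P : Subgroup G) H := by
      refine isComplement'_of_coprime ?_ hcop
      rw [hik, mul_comm, ← hk, card_mul_index]
    have hHn : Group.IsNilpotent H := by
      open scoped IsMulCommutative in
      exact CommGroup.isNilpotent
    refine Core.isSolvable_of_coprime_nilpotent_product P.isPGroup'.isNilpotent hHn hcop fun g => ?_
    obtain ⟨⟨a, b⟩, hab⟩ := hcpl.2 g
    exact ⟨a, a.2, b, b.2, hab.symm⟩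
  · have := Fact.mk hp
    obtain ⟨i, hi⟩ := IsPGroup.iff_card.1 P.isPGroup'
    obtain ⟨j, hj⟩ := IsPGroup.iff_card.1 Q.isPGroup'
    set K := (P : Subgroup G) ⊔ (Q : Subgroup G)
    have hAn : A.Normal := ⟨fun z hz g => by
      rw [mem_center_iff.1 (hAZ hz) g, mul_inv_cancel_right]; exact hz⟩
    have hAi : A.index = Nat.card K := by
      have h1 : A.relIndex (K ⊔ A) = A.relIndex K := relIndex_sup_right K A
      rw [hsup, relIndex_top_right] at h1
      have h2 := (A ⊓ K).card_mul_index
      rw [h1, ← inf_relIndex_right, inf_comm, hinf, relIndex_bot_left]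
    refine isSolvable_of_center_index hp hqf.out fun s hs hsd => ?_
    have h3 := hsd.trans ((index_dvd_of_le hAZ).trans (dvd_of_eq (hAi.trans hcard)))
    rw [hi, hj] at h3
    rcases hs.dvd_mul.1 h3 with h4 | h4
    · exact Or.inl ((Nat.prime_dvd_prime_iff_eq hs hp).1 (hs.dvd_of_dvd_pow h4))
    · exact Or.inr ((Nat.prime_dvd_prime_iff_eq hs hqf.out).1 (hs.dvd_of_dvd_pow h4))

/-- The standing hypothesis. -/
structure Hyp (G : Type u) [Group G] (n m : ℕ) : Prop where
  lt : n < m
  one_lt : 1 < n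
  idx : ∀ x : G, x ∉ center G →
    (centralizer ({x} : Set G)).index = n ∨ (centralizer ({x} : Set G)).index = m
  nsol : ¬ Group.IsSolvable G

variable {n m : ℕ}

/-- Every noncentral element of prime power order commutes with one for another prime. -/
theorem Hyp.exists_other (h : Hyp G n m) (hp : p.Prime) (hx : PEl p x) (hxZ : x ∉ center G) :
    ∃ r, r.Prime ∧ r ≠ p ∧ ∃ w ∈ C[x], w ∉ center G ∧ PEl r w := by
  by_contra hcon
  push Not at hcon
  have key : ∀ g : G, Reg p g → g ∉ center G → C[g].index ≠ C[x].index := by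
    intro g hg hgZ he
    obtain ⟨r, hr, w, hw, hwr, hwZ⟩ := exists_part hgZ
    have hrp : r ≠ p := fun e => hwZ (by
      rw [TwoRegSizes.eq_one_of_pel_reg hwr (e ▸ hg.of_mem_zpowers hw)]; exact one_mem _)
    have := Fact.mk hr
    obtain ⟨v, hv, hvZ, hvr⟩ := exists_noncentral_part (x := x) hwr hwZ (H := C[g])
      (zpowers_le.2 (self_mem_cent g) hw) (center_le_centralizer _)
      (by rw [card_eq_of_index he])
    exact hcon r hr hrp v hv hvZ hvr
  rcases h.idx x hxZ with e | e
  · exact h.nsol (isSolvable_of_regular hp fun g hg hgZ =>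
      (h.idx g hgZ).resolve_left fun e' => key g hg hgZ (e'.trans e.symm))
  · exact h.nsol (isSolvable_of_regular hp fun g hg hgZ =>
      (h.idx g hgZ).resolve_right fun e' => key g hg hgZ (e'.trans e.symm))

/-- Centralizers are equal along commuting elements if they are for coprime prime power orders. -/
theorem cent_eq_of_cross {π : ℕ → Prop}
    (hπ : ∀ p, p.Prime → π p → ∀ x : G, PEl p x → x ∉ center G →
      ∃ r, r.Prime ∧ π r ∧ r ≠ p ∧ ∃ w ∈ C[x], w ∉ center G ∧ PEl r w)
    (hcross : ∀ p r, p.Prime → r.Prime → π p → π r → p ≠ r → ∀ x w : G, PEl p x → PEl r w →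
      x ∉ center G → w ∉ center G → w ∈ C[x] → C[w] = C[x])
    {p r : ℕ} (hp : p.Prime) (hr : r.Prime) (hpπ : π p) (hrπ : π r) {x v : G} (hx : PEl p x)
    (hv : PEl r v) (hxZ : x ∉ center G) (hvZ : v ∉ center G) (hvx : v ∈ C[x]) : C[v] = C[x] := by
  rcases eq_or_ne p r with rfl | hne
  · obtain ⟨s, hs, hsπ, hsp, w, hw, hwZ, hws⟩ := hπ p hp hpπ x hx hxZ
    have e1 := hcross p s hp hs hpπ hsπ (Ne.symm hsp) x w hx hws hxZ hwZ hw
    rw [← e1] at hvx ⊢
    exact hcross s p hs hp hsπ hpπ hsp w v hws hv hwZ hvZ hvx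
  · exact hcross p r hp hr hpπ hrπ hne x v hx hv hxZ hvZ hvx

end Cfsg.Agent.ItoThree
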