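import Cfsg.Agent.ItoThree.Basic
import Cfsg.Agent.SylowFifteen.Small

/-!
Three class sizes, no inclusions between centralizers of noncentral elements.
-/

set_option autoImplicit false
set_option linter.unusedSectionVars false

namespace Cfsg.Agent.ItoThree

open Subgroup
open Cfsg.Agent.TwoClassSizes.Normal (mem_cent self_mem_cent mem_cent_symm conj_mem_center mem_cent_conj)
open Cfsg.Agent.TwoRegSizes (PEl Reg)

universe u

variable {G : Type u} [Group G] [Finite G] {n m : ℕ} {x y : G}

local notation "C[" x "]" => Subgroup.centralizer ({x} : Set _)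

theorem mem_conj_cent_iff {g x a : G} : a ∈ C[g * x * g⁻¹] ↔ g⁻¹ * a * g ∈ C[x] := by
  conv_lhs => rw [show a = g * (g⁻¹ * a * g) * g⁻¹ by group, mem_cent_conj]

theorem map_conj_cent (g x : G) : C[x].map (MulAut.conj g).toMonoidHom = C[g * x * g⁻¹] := by
  ext a
  rw [mem_conj_cent_iff, mem_map]
  constructor
  · rintro ⟨b, hb, rfl⟩
    simpa [mul_assoc] using hb
  · intro h
    exact ⟨_, h, by simp [mul_assoc]⟩

/-- Centralizers of noncentral elements are pairwise incomparable. -/
def Flat (G : Type u) [Group G] : Prop :=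
  ∀ x y : G, x ∉ center G → y ∉ center G → C[x] ≤ C[y] → C[x] = C[y]

theorem cent_eq_of_mem (h : Hyp G n m) (hF : Flat G) (hx : x ∉ center G) (hy : y ∉ center G)
    (hyx : y ∈ C[x]) : C[y] = C[x] := by
  have key : ∀ {p r : ℕ}, p.Prime → r.Prime → ∀ {a b : G}, PEl p a → PEl r b → a ∉ center G →
      b ∉ center G → b ∈ C[a] → C[b] = C[a] := fun {p r} hp hr {a b} ha hb haZ hbZ hba => by
    refine cent_eq_of_cross (π := fun _ => True) (fun p hp _ x hx hxZ => ?_) ?_ hp hr trivial trivial
      ha hb haZ hbZ hba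
    · obtain ⟨r, hr, hrp, w, hw⟩ := h.exists_other hp hx hxZ
      exact ⟨r, hr, trivial, hrp, w, hw⟩
    · intro p r hp hr _ _ hne x w hx hw hxZ hwZ hwx
      have hc : Commute x w := (mem_cent.1 hwx).symm
      have hcop := hx.coprime hp hr hne hw
      have hZ := mul_not_mem_center hc hcop hxZ
      rw [← hF _ _ hZ hwZ ((cent_mul hc hcop).le.trans inf_le_right),
        ← hF _ _ hZ hxZ ((cent_mul hc hcop).le.trans inf_le_left)]
  obtain ⟨p, hp, a, hax, ha, haZ⟩ := exists_part hx
  obtain ⟨r, hr, b, hby, hb, hbZ⟩ := exists_part hy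
  have ea := hF x a hx haZ (TwoClassSizes.centralizer_le_of_mem_zpowers hax)
  have eb := hF y b hy hbZ (TwoClassSizes.centralizer_le_of_mem_zpowers hby)
  rw [ea, eb]
  exact key hp hr ha hb haZ hbZ (zpowers_le.2 (ea ▸ hyx) hby)

theorem centOn (h : Hyp G n m) (hF : Flat G) (hx : x ∉ center G) (t : ℕ) : CentOn t C[x] :=
  fun _ hv hvZ _ => cent_eq_of_mem h hF hx hvZ hv

/-- A prime for which the centralizer contains a Sylow subgroup, not central. -/
theorem exists_good (h : Hyp G n m) (hF : Flat G) (hx : x ∉ center G) :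
    ∃ r, r.Prime ∧ ¬ r ∣ C[x].index ∧ ∃ v ∈ C[x], v ∉ center G ∧ PEl r v := by
  obtain ⟨p, hp, a, hax, ha, haZ⟩ := exists_part hx
  have hac : a ∈ C[x] := zpowers_le.2 (self_mem_cent x) hax
  obtain ⟨r, hr, hrp, w, hw, hwZ, hwr⟩ := h.exists_other hp ha haZ
  rw [cent_eq_of_mem h hF hx haZ hac] at hw
  by_contra hcon
  push Not at hcon
  have := Fact.mk hp
  have := Fact.mk hr
  have hdp : p ∣ C[x].index := by
    by_contra hd
    exact hcon p hp hd a hac haZ ha
  have hdr : r ∣ C[x].index := by
    by_contra hd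
    exact hcon r hr hd w hw hwZ hwr
  exact false_of_two_primes hp hr (Ne.symm hrp) (centOn h hF hx p) ⟨a, hac, haZ, ha⟩
    (exists_outside (centOn h hF hx p) ⟨a, hac, haZ, ha⟩ hdp)
    (centOn h hF hx r) ⟨w, hw, hwZ, hwr⟩
    (exists_outside (centOn h hF hx r) ⟨w, hw, hwZ, hwr⟩ hdr)

theorem exists_sylow_eq (h : Hyp G n m) (hF : Flat G) (hx : x ∉ center G) {r : ℕ} [Fact r.Prime]
    (hr : ¬ r ∣ C[x].index) (R : Sylow r G) (hR : (R : Subgroup G) ≤ C[x]) :
    ∀ v ∈ C[x], PEl r v → v ∈ (R : Subgroup G) := by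
  intro v hv hvr
  have hT : IsPGroup r (tPart (centOn h hF hx r)) := TwoRegSizes.isPGroup_of_pel fun g hg => hg.2
  have hle : (R : Subgroup G) ≤ tPart (centOn h hF hx r) := fun g hg =>
    ⟨hR hg, TwoRegSizes.pel_of_mem R.isPGroup' hg⟩
  rw [← R.3 hT hle]
  exact ⟨hv, hvr⟩

/-- Equal class sizes: conjugate centralizers. -/
theorem conj_of_index (h : Hyp G n m) (hF : Flat G) (hx : x ∉ center G) (hy : y ∉ center G)
    (he : C[x].index = C[y].index) : ∃ g : G, C[g * x * g⁻¹] = C[y] := by
  obtain ⟨r, hr, hrd, v, hv, hvZ, hvr⟩ := exists_good h hF hx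
  have := Fact.mk hr
  have sy : ∀ z : G, ¬ r ∣ C[z].index → ∃ R : Sylow r G, (R : Subgroup G) ≤ C[z] := by
    intro z hz
    obtain ⟨W⟩ := (inferInstance : Nonempty (Sylow r C[z]))
    obtain ⟨R, hR⟩ := (W.isPGroup'.map C[z].subtype).exists_le_sylow
    refine ⟨R, ?_⟩
    rw [← eq_of_le_of_card_ge hR ?_]
    · exact map_subtype_le _
    · rw [card_map_of_injective C[z].subtype_injective, W.card_eq_multiplicity, R.card_eq_multiplicity,
        ← C[z].card_mul_index, Nat.factorization_mul Nat.card_pos.ne' index_ne_zero_of_finite,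
        Finsupp.add_apply, Nat.factorization_eq_zero_of_not_dvd hz, add_zero]
  obtain ⟨R, hR⟩ := sy x hrd
  obtain ⟨R', hR'⟩ := sy y (he ▸ hrd)
  have hvR := exists_sylow_eq h hF hx hrd R hR v hv hvr
  obtain ⟨g, hg⟩ := MulAction.exists_smul_eq G R R'
  have hgv : g * v * g⁻¹ ∈ (R' : Subgroup G) := by
    rw [← hg, Sylow.coe_subgroup_smul]
    exact ⟨v, hvR, rfl⟩
  refine ⟨g, ?_⟩
  rw [← cent_eq_of_mem h hF hy (mt conj_mem_center.1 hvZ) (hR' hgv), ← map_conj_cent g v,
    cent_eq_of_mem h hF hx hvZ hv, map_conj_cent]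

/-- A selfnormalizing centralizer. -/
theorem isSolvable_of_selfNormalizing (h : Hyp G n m) (hF : Flat G) (hx : x ∉ center G) {b : G}
    (hb : b ∉ center G) (hcl : ∀ y : G, y ∉ center G →
      (∃ g : G, C[g * x * g⁻¹] = C[y]) ∨ ∃ g : G, C[g * b * g⁻¹] = C[y])
    (hN : normalizer (C[x] : Set G) ≤ C[x]) : Group.IsSolvable G := by
  set K := commutator G
  -- the noncentral elements of the centralizer avoid the derived subgroup
  have hav : ∀ a ∈ C[x], a ∈ K → a ∈ center G := by
    intro a ha haK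
    by_contra haZ
    obtain ⟨r, hr, w, hwa, hwr, hwZ⟩ := exists_part haZ
    have := Fact.mk hr
    have hw : w ∈ C[x] := zpowers_le.2 ha hwa
    have hrd : ¬ r ∣ C[x].index := fun hd => by
      obtain ⟨g, hg, hgC, -⟩ := exists_outside (centOn h hF hx r) ⟨w, hw, hwZ, hwr⟩ hd
      exact hgC (hN hg)
    obtain ⟨W⟩ := (inferInstance : Nonempty (Sylow r C[x]))
    obtain ⟨R, hR⟩ := (W.isPGroup'.map C[x].subtype).exists_le_sylow
    have hRx : (R : Subgroup G) ≤ C[x] := by
      rw [← eq_of_le_of_card_ge hR ?_]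
      · exact map_subtype_le _
      · rw [card_map_of_injective C[x].subtype_injective, W.card_eq_multiplicity, R.card_eq_multiplicity,
          ← C[x].card_mul_index, Nat.factorization_mul Nat.card_pos.ne' index_ne_zero_of_finite,
          Finsupp.add_apply, Nat.factorization_eq_zero_of_not_dvd hrd, add_zero]
    have hwR := exists_sylow_eq h hF hx hrd R hRx w hw hwr
    have hcR : ∀ c ∈ C[x], ∀ u ∈ (R : Subgroup G), u * c = c * u := fun c hc u hu =>
      ((centOn h hF hx r).commute (hRx hu) (TwoRegSizes.pel_of_mem R.isPGroup' hu) hc).eq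
    have hNR : normalizer ((R : Subgroup G) : Set G) ≤ centralizer ((R : Subgroup G) : Set G) := by
      intro g hg
      have h1 : g * w * g⁻¹ ∈ C[x] := hRx ((mem_normalizer_iff.1 hg w).1 hwR)
      have h2 : g ∈ normalizer (C[x] : Set G) := by
        refine mem_normalizer_iff.2 fun c => ?_
        have h3 := mem_cent_conj (g := g) (x := w) (u := c)
        rw [cent_eq_of_mem h hF hx hwZ hw, cent_eq_of_mem h hF hx (mt conj_mem_center.1 hwZ) h1] at h3
        exact h3.symm
      exact mem_centralizer_iff.2 fun u hu => hcR g (hN h2) u hu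
    have : IsMulCommutative (R : Subgroup G) :=
      ⟨⟨fun u v => Subtype.ext (hcR v (hRx v.2) u u.2)⟩⟩
    have hK : K ≤ (MonoidHom.transferSylow R hNR).ker := by
      refine (commutator_le (G := G)).2 fun c _ d _ => ?_
      rw [MonoidHom.mem_ker, map_commutatorElement, commutatorElement_eq_one_iff_mul_comm]
      exact mul_comm' _ _
    have hdis := (MonoidHom.ker_transferSylow_isComplement' R hNR).disjoint
    refine hwZ ?_
    rw [show w = 1 from (Subgroup.disjoint_def.1 hdis) (hK (zpowers_le.2 haK hwa)) hwR]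
    exact one_mem _
  have hcard : ∀ y ∈ K, y ∉ center G → (C[y].subgroupOf K).index = (C[b].subgroupOf K).index := by
    intro y hyK hy
    rcases hcl y hy with ⟨g, hg⟩ | ⟨g, hg⟩
    · exfalso
      refine hy (conj_mem_center.1 (hav (g⁻¹ * y * (g⁻¹)⁻¹) ?_
        ((inferInstance : K.Normal).conj_mem y hyK g⁻¹)))
      rw [inv_inv, ← mem_conj_cent_iff, hg]
      exact self_mem_cent y
    · change C[y].relIndex K = C[b].relIndex K
      rw [← hg, ← map_conj_cent]
      have hKg : K.map (MulAut.conj g).toMonoidHom = K := by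
        refine le_antisymm ?_ fun a ha => ⟨g⁻¹ * a * (g⁻¹)⁻¹, (inferInstance : K.Normal).conj_mem a ha g⁻¹,
          by simp [mul_assoc]⟩
        rintro _ ⟨a, ha, rfl⟩
        exact (inferInstance : K.Normal).conj_mem a ha g
      conv_lhs => rw [← hKg]
      exact relIndex_map_map_of_injective _ _ (MulAut.conj g).injective
  have hsol : Group.IsSolvable K := by
    refine isSolvable_of_regular (G := K) Nat.prime_two (ν := (C[b].subgroupOf K).index) fun y _ hy => ?_
    have e : C[y] = C[(y : G)].subgroupOf K := by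
      ext a
      rw [mem_subgroupOf, mem_cent, mem_cent, Subtype.ext_iff]
      rfl
    rw [e]
    refine hcard y y.2 fun hz => hy (mem_center_iff.2 fun a => Subtype.ext (mem_center_iff.1 hz a))
  exact Group.isSolvable_of_ker_le_range K.subtype (Abelianization.of (G := G))
    (by rw [range_subtype, Abelianization.ker_of])

theorem card_diff_le {A : Subgroup G} (hA : center G ≤ A) (hAN : ¬ normalizer (A : Set G) ≤ A) :
    2 * ((normalizer (A : Set G)).index * Nat.card A) ≤ Nat.card G := by
  have h1 : 2 * Nat.card A ≤ Nat.card (normalizer (A : Set G)) := by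
    have e := relIndex_mul_relIndex ⊥ A (normalizer (A : Set G)) bot_le le_normalizer
    rw [relIndex_bot_left, relIndex_bot_left] at e
    have h2 : A.relIndex (normalizer (A : Set G)) ≠ 1 := fun e' => hAN (relIndex_eq_one.1 e')
    have h3 : A.relIndex (normalizer (A : Set G)) ≠ 0 := index_ne_zero_of_finite
    rw [← e, mul_comm]
    exact Nat.mul_le_mul_left _ (by omega)
  calc 2 * ((normalizer (A : Set G)).index * Nat.card A)
      = (normalizer (A : Set G)).index * (2 * Nat.card A) := by ring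
    _ ≤ (normalizer (A : Set G)).index * Nat.card (normalizer (A : Set G)) := Nat.mul_le_mul_left _ h1
    _ = Nat.card G := by rw [mul_comm, card_mul_index]

theorem false_of_flat (h : Hyp G n m) (hF : Flat G) (hn : ∃ a : G, C[a].index = n)
    (hm : ∃ b : G, C[b].index = m) : False := by
  obtain ⟨a, ha⟩ := hn
  obtain ⟨b, hb⟩ := hm
  have haZ : a ∉ center G := fun hz => by
    have := h.one_lt; rw [index_cent_eq_one.2 hz] at ha; omega
  have hbZ : b ∉ center G := fun hz => by
    have := h.one_lt; have := h.lt; rw [index_cent_eq_one.2 hz] at hb; omega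
  have hcl : ∀ y : G, y ∉ center G →
      (∃ g : G, C[g * a * g⁻¹] = C[y]) ∨ ∃ g : G, C[g * b * g⁻¹] = C[y] := fun y hy => by
    rcases h.idx y hy with e | e
    · exact Or.inl (conj_of_index h hF haZ hy (ha.trans e.symm))
    · exact Or.inr (conj_of_index h hF hbZ hy (hb.trans e.symm))
  by_cases hNa : normalizer (C[a] : Set G) ≤ C[a]
  · exact h.nsol (isSolvable_of_selfNormalizing h hF haZ hbZ hcl hNa)
  by_cases hNb : normalizer (C[b] : Set G) ≤ C[b]
  · exact h.nsol (isSolvable_of_selfNormalizing h hF hbZ haZ (fun y hy => (hcl y hy).symm) hNb)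
  classical
  -- counting
  let U : G → Type u := fun c => (G ⧸ normalizer (C[c] : Set G)) × {v : C[c] // (v : G) ∉ center G}
  have hsurj : ∀ c y : G, y ∉ center G → (∃ g : G, C[g * c * g⁻¹] = C[y]) →
      ∃ u : U c, u.1.out * (u.2.1 : G) * u.1.out⁻¹ = y := by
    rintro c y hy ⟨g, hg⟩
    have hv : g⁻¹ * y * g ∈ C[c] := mem_conj_cent_iff.1 (hg ▸ self_mem_cent y)
    obtain ⟨k, hk⟩ := QuotientGroup.mk_out_eq_mul (normalizer (C[c] : Set G)) g
    set q : G ⧸ normalizer (C[c] : Set G) := QuotientGroup.mk g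
    have hmem : (k : G)⁻¹ * (g⁻¹ * y * g) * ((k : G)⁻¹)⁻¹ ∈ C[c] :=
      (mem_normalizer_iff.1 (inv_mem k.2) _).1 hv
    refine ⟨(q, ⟨⟨_, hmem⟩, fun hz => ?_⟩), ?_⟩
    · apply hy
      have h1 := conj_mem_center.1 hz
      rw [show g⁻¹ * y * g = g⁻¹ * y * (g⁻¹)⁻¹ by rw [inv_inv]] at h1
      exact conj_mem_center.1 h1
    · show q.out * _ * q.out⁻¹ = y
      rw [hk]
      group
  let f : U a ⊕ U b → G := Sum.elim (fun u => u.1.out * (u.2.1 : G) * u.1.out⁻¹)
    (fun u => u.1.out * (u.2.1 : G) * u.1.out⁻¹)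
  have hcount : Nat.card {y : G // y ∉ center G} ≤ Nat.card (U a) + Nat.card (U b) := by
    rw [← Nat.card_sum]
    have hsub : ∀ y : {y : G // y ∉ center G}, ∃ u, f u = y := fun y => by
      rcases hcl y y.2 with hy | hy
      · obtain ⟨u, hu⟩ := hsurj a y y.2 hy
        exact ⟨Sum.inl u, hu⟩
      · obtain ⟨u, hu⟩ := hsurj b y y.2 hy
        exact ⟨Sum.inr u, hu⟩
    choose φ hφ using hsub
    exact Nat.card_le_card_of_injective φ fun y z e => Subtype.ext (by rw [← hφ y, ← hφ z, e])
  have hU : ∀ c : G, Nat.card (U c) + (normalizer (C[c] : Set G)).index * Nat.card (center G) =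
      (normalizer (C[c] : Set G)).index * Nat.card C[c] := by
    intro c
    have e1 : Nat.card {v : C[c] // (v : G) ∉ center G} + Nat.card (center G) = Nat.card C[c] := by
      have e2 : Nat.card {v : C[c] // (v : G) ∈ center G} = Nat.card (center G) :=
        Nat.card_congr
          { toFun := fun v => ⟨(v.1 : G), v.2⟩
            invFun := fun z => ⟨⟨z, center_le_centralizer _ z.2⟩, z.2⟩
            left_inv := fun v => rfl
            right_inv := fun z => rfl }
      rw [← e2, add_comm, ← Nat.card_sum]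
      exact Nat.card_congr (Equiv.sumCompl fun v : C[c] => (v : G) ∈ center G)
    show Nat.card ((G ⧸ normalizer (C[c] : Set G)) × {v : C[c] // (v : G) ∉ center G}) + _ = _
    rw [Nat.card_prod, ← index_eq_card, ← mul_add, e1]
  have htot : Nat.card {y : G // y ∉ center G} + Nat.card (center G) = Nat.card G := by
    rw [add_comm, ← Nat.card_sum]
    exact Nat.card_congr (Equiv.sumCompl fun y : G => y ∈ center G)
  have ha2 := card_diff_le (center_le_centralizer _) hNa
  have hb2 := card_diff_le (center_le_centralizer _) hNb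
  have := hU a
  have := hU b
  have hz : 0 < Nat.card (center G) := Nat.card_pos
  have hia := Nat.le_mul_of_pos_left (Nat.card (center G))
    (Nat.pos_of_ne_zero (index_ne_zero_of_finite (H := normalizer (C[a] : Set G))))
  have hib := Nat.le_mul_of_pos_left (Nat.card (center G))
    (Nat.pos_of_ne_zero (index_ne_zero_of_finite (H := normalizer (C[b] : Set G))))
  omega

end Cfsg.Agent.ItoThree
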