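import Cfsg.Agent.ItoThree.Basic
import Cfsg.Agent.FTCons.ClassFour

/-!
Three class sizes, with an inclusion between centralizers of noncentral elements.
-/

set_option autoImplicit false
set_option linter.unusedSectionVars false

namespace Cfsg.Agent.ItoThree

open Subgroup
open Cfsg.Agent.TwoClassSizes.Normal (mem_cent self_mem_cent mem_cent_symm conj_mem_center)
open Cfsg.Agent.TwoRegSizes (PEl Reg)

universe u

variable {G : Type u} [Group G] [Finite G] {n m k p : ℕ} {x y u w : G}

local notation "C[" x "]" => Subgroup.centralizer ({x} : Set _)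

theorem cent_sub_index {C : Subgroup G} (z : C) :
    (centralizer ({z} : Set C)).index = C[(z : G)].relIndex C := by
  have e : centralizer ({z} : Set C) = C[(z : G)].subgroupOf C := by
    ext a
    rw [mem_subgroupOf, mem_cent, mem_cent, Subtype.ext_iff]
    rfl
  rw [e]
  rfl

theorem k_ne_one (h : Hyp G n m) (hk : n * k = m) : 1 < k := by
  rcases k with _ | _ | k
  · have := h.lt; simp at hk; omega
  · have := h.lt; simp at hk; omega
  · omega

/-- The centralizer of an element of smaller class size. -/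
theorem structure_lemma (h : Hyp G n m) (hp : p.Prime) (hu : PEl p u) (huZ : u ∉ center G)
    (hun : C[u].index = n) (hk : n * k = m) (hw : w ∈ C[u]) (hwp : Reg p w)
    (hne : C[u * w] ≠ C[u]) :
    (∀ s, s.Prime → s ∣ k → s = p) ∨ ∃ q, q.Prime ∧ (∀ s, s.Prime → s ∣ k → s = p ∨ s = q) ∧
      ∀ r, r.Prime → r ≠ p → r ≠ q → ∀ g ∈ C[u], PEl r g → C[u] ≤ C[g] := by
  set C := C[u] with hC
  have key : ∀ z : C, Reg p z → z ∉ center C → (centralizer ({z} : Set C)).index = k := by
    intro z hz hzC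
    have hz' : Reg p (z : G) := by
      unfold TwoRegSizes.Reg
      rw [Subgroup.orderOf_coe]
      exact hz
    have hc : Commute u (z : G) := (mem_cent.1 z.2).symm
    have hcop : (orderOf u).Coprime (orderOf (z : G)) := by
      obtain ⟨i, hi⟩ := hu
      exact (hz'.symm.pow_left i).coprime_dvd_left hi
    have e : C[u * (z : G)] = C ⊓ C[(z : G)] := cent_mul hc hcop
    have h1 : C[u * (z : G)].relIndex C * C.index = C[u * (z : G)].index :=
      relIndex_mul_index (e.le.trans inf_le_left)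
    rw [e, inf_relIndex_left, ← cent_sub_index z, ← e, hun] at h1
    rcases h.idx _ (mul_not_mem_center hc hcop huZ) with e1 | e1 <;> rw [e1] at h1
    · exact absurd (index_cent_eq_one.1 (Nat.eq_of_mul_eq_mul_right
        (Nat.zero_lt_of_lt h.one_lt) (h1.trans (one_mul n).symm))) hzC
    · exact Nat.eq_of_mul_eq_mul_right (Nat.zero_lt_of_lt h.one_lt) (by rw [h1, ← hk, mul_comm])
  have hwC : (⟨w, hw⟩ : C) ∉ center C := by
    intro hz
    refine hne ?_
    have hle : C ≤ C[w] := fun c hc => mem_cent.2 (congrArg Subtype.val (mem_center_iff.1 hz ⟨c, hc⟩))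
    obtain ⟨i, hi⟩ := hu
    rw [cent_mul (mem_cent.1 hw).symm ((hwp.symm.pow_left i).coprime_dvd_left hi), inf_eq_left]
    exact hle
  have hwp' : Reg p (⟨w, hw⟩ : C) := by
    unfold TwoRegSizes.Reg
    rw [← Subgroup.orderOf_coe]
    exact hwp
  rcases S4033.result hp (carrier_range hp (k_ne_one h hk).ne' hwp' hwC key) with
    ⟨H, hHc, hpH, j, hj⟩ | ⟨q, hqf, P, Q, A, -, hAZ, hcard, -, hinf, hsup⟩
  · left
    have hHnc : ¬ H ≤ center C := by
      intro hH
      refine hwC (hH ?_)
      have : H.Normal := ⟨fun z hz g => by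
        rw [mem_center_iff.1 (hH hz) g, mul_inv_cancel_right]; exact hz⟩
      rw [← QuotientGroup.eq_one_iff (N := H), ← orderOf_eq_one_iff]
      refine Nat.eq_one_of_dvd_coprimes (Nat.Coprime.pow_right j hwp')
        (orderOf_map_dvd (QuotientGroup.mk' H) _) ?_
      rw [← hj, index_eq_card]
      exact orderOf_dvd_natCard _
    obtain ⟨z, hzH, hzC⟩ := SetLike.not_le_iff_exists.1 hHnc
    have hzp : Reg p z := by
      refine (Nat.Coprime.coprime_dvd_left ?_ (hp.coprime_iff_not_dvd.2 hpH).symm)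
      exact (Subgroup.orderOf_mk z hzH).symm ▸ orderOf_dvd_natCard (⟨z, hzH⟩ : H)
    intro s hs hsk
    have h1 : k ∣ p ^ j := by
      rw [← key z hzp hzC, ← hj]
      refine index_dvd_of_le fun a ha => mem_cent.2 ?_
      exact congrArg Subtype.val (mul_comm' (⟨a, ha⟩ : H) ⟨z, hzH⟩)
    exact (Nat.prime_dvd_prime_iff_eq hs hp).1 (hs.dvd_of_dvd_pow (hsk.trans h1))
  · right
    have := Fact.mk hp
    obtain ⟨i, hi⟩ := IsPGroup.iff_card.1 P.isPGroup'
    obtain ⟨j, hj⟩ := IsPGroup.iff_card.1 Q.isPGroup'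
    set K := (P : Subgroup C) ⊔ (Q : Subgroup C)
    have hAn : A.Normal := ⟨fun z hz g => by
      rw [mem_center_iff.1 (hAZ hz) g, mul_inv_cancel_right]; exact hz⟩
    have hAi : A.index = p ^ i * q ^ j := by
      have h1 : A.relIndex (K ⊔ A) = A.relIndex K := relIndex_sup_right K A
      rw [hsup, relIndex_top_right] at h1
      rw [h1, ← inf_relIndex_right, inf_comm, hinf, relIndex_bot_left, hcard, hi, hj]
    refine ⟨q, hqf.out, fun s hs hsk => ?_, fun r hr hrp hrq g hg hgr c hc => ?_⟩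
    · have h1 : k ∣ A.index := by
        rw [← key _ hwp' hwC]
        exact index_dvd_of_le (hAZ.trans (center_le_centralizer _))
      rw [hAi] at h1
      rcases hs.dvd_mul.1 (hsk.trans h1) with h4 | h4
      · exact Or.inl ((Nat.prime_dvd_prime_iff_eq hs hp).1 (hs.dvd_of_dvd_pow h4))
      · exact Or.inr ((Nat.prime_dvd_prime_iff_eq hs hqf.out).1 (hs.dvd_of_dvd_pow h4))
    · have hgA : (⟨g, hg⟩ : C) ∈ A := by
        rw [← QuotientGroup.eq_one_iff (N := A), ← orderOf_eq_one_iff]
        obtain ⟨l, hl⟩ := hgr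
        refine Nat.eq_one_of_dvd_coprimes
          (Nat.Coprime.pow_left l ((Nat.Coprime.pow_right i ((Nat.coprime_primes hr hp).2 hrp)).mul_right
            (Nat.Coprime.pow_right j ((Nat.coprime_primes hr hqf.out).2 hrq))))
          ((orderOf_map_dvd (QuotientGroup.mk' A) _).trans ((Subgroup.orderOf_mk g hg).symm ▸ hl)) ?_
        rw [← hAi, index_eq_card]
        exact orderOf_dvd_natCard _
      exact mem_cent.2 (congrArg Subtype.val (mem_center_iff.1 (hAZ hgA) ⟨c, hc⟩))

theorem eq_of_cent_le (h : Hyp G n m) {g : G} (hg : g ∉ center G) (hun : C[u].index = n)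
    (hle : C[u] ≤ C[g]) : C[u] = C[g] := by
  refine eq_of_le_of_index hle ?_
  rcases h.idx g hg with e | e
  · rw [hun, e]
  · have := Nat.le_of_dvd (Nat.zero_lt_of_lt h.one_lt) (hun ▸ e ▸ index_dvd_of_le hle)
    have := h.lt
    omega

theorem reg_of_ne {r : ℕ} (hr : r.Prime) (hp : p.Prime) (hne : r ≠ p) {g : G} (hg : PEl r g) : Reg p g :=
  hg.reg hr hp hne

/-- An element of smaller class size with a noncentral regular element in its centralizer. -/
theorem exists_witness (h : Hyp G n m) (hxZ : x ∉ center G) (hyZ : y ∉ center G) (hlt : C[x] < C[y]) :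
    (∃ k, n * k = m) ∧ ∃ p u w, p.Prime ∧ PEl p u ∧ u ∉ center G ∧ C[u].index = n ∧ w ∈ C[u] ∧
      Reg p w ∧ C[u * w] ≠ C[u] := by
  obtain ⟨p, hp, y', hy', hyp, hy'Z⟩ := exists_part hyZ
  have hlt' : C[x] < C[y'] := hlt.trans_le (TwoClassSizes.centralizer_le_of_mem_zpowers hy')
  have hd := index_dvd_of_le hlt'.le
  have hne : C[y'].index ≠ C[x].index := fun e => hlt'.ne (eq_of_le_of_index hlt'.le e.symm)
  obtain ⟨hyn, hxm⟩ : C[y'].index = n ∧ C[x].index = m := by
    have := h.lt
    rcases h.idx x hxZ with e1 | e1 <;> rcases h.idx y' hy'Z with e2 | e2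
    · omega
    · exfalso
      rw [e1, e2] at hd
      have := Nat.le_of_dvd (Nat.zero_lt_of_lt h.one_lt) hd
      omega
    · exact ⟨e2, e1⟩
    · omega
  refine ⟨?_, ?_⟩
  · obtain ⟨c, hc⟩ := hd
    exact ⟨c, by rw [← hxm, hc, hyn]⟩
  by_cases hall : ∀ w ∈ C[y'], Reg p w → C[y' * w] = C[y']
  swap
  · push Not at hall
    obtain ⟨w, hw, hwp, hne⟩ := hall
    exact ⟨p, y', w, hp, hyp, hy'Z, hyn, hw, hwp, hne⟩
  -- all regular elements are central, so pass to another prime
  have cen : ∀ {p : ℕ} {u : G}, p.Prime → PEl p u → (∀ w ∈ C[u], Reg p w → C[u * w] = C[u]) →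
      ∀ w ∈ C[u], Reg p w → C[u] ≤ C[w] := by
    intro p u hp hu hall w hw hwp
    obtain ⟨i, hi⟩ := hu
    have e := hall w hw hwp
    rw [cent_mul (mem_cent.1 hw).symm ((hwp.symm.pow_left i).coprime_dvd_left hi), inf_eq_left] at e
    exact e
  obtain ⟨r, hr, hrp, v, hv, hvZ, hvr⟩ := h.exists_other hp hyp hy'Z
  have ev := eq_of_cent_le h hvZ hyn (cen hp hyp hall v hv (hvr.reg hr hp hrp))
  by_cases hall2 : ∀ w ∈ C[v], Reg r w → C[v * w] = C[v]
  swap
  · push Not at hall2
    obtain ⟨w, hw, hwp, hne⟩ := hall2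
    exact ⟨r, v, w, hr, hvr, hvZ, ev ▸ hyn, hw, hwp, hne⟩
  exfalso
  -- the centralizer is abelian
  have hab : ∀ a ∈ C[y'], ∀ b ∈ C[y'], b ∈ C[a] := by
    intro a ha b hb
    refine mem_cent_symm ?_
    by_contra hnot
    obtain ⟨s, hs, a', ha', has, hn'⟩ := exists_part (K := C[b]) hnot
    have ha'y : a' ∈ C[y'] := zpowers_le.2 ha ha'
    refine hn' (mem_cent_symm ?_)
    rcases eq_or_ne s p with rfl | hsp
    · exact cen hr hvr hall2 a' (ev ▸ ha'y) (has.reg hs hr (Ne.symm hrp)) (ev ▸ hb)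
    · exact cen hp hyp hall a' ha'y (has.reg hs hp hsp) hb
  have hx' : x ∈ C[y'] := hlt'.le (self_mem_cent x)
  exact hlt'.not_ge fun b hb => hab x hx' b hb

/-- The quotient of the class sizes is a prime power. -/
theorem single_prime (h : Hyp G n m) (hk : n * k = m) {p : ℕ} (hp : p.Prime) (hu : PEl p u)
    (huZ : u ∉ center G) (hun : C[u].index = n) (hw : w ∈ C[u]) (hwp : Reg p w)
    (hne : C[u * w] ≠ C[u]) : ∃ q, q.Prime ∧ ∀ s, s.Prime → s ∣ k → s = q := by
  rcases structure_lemma h hp hu huZ hun hk hw hwp hne with h1 | ⟨q, hq, h1, h2⟩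
  · exact ⟨p, hp, h1⟩
  by_cases hpk : p ∣ k
  swap
  · exact ⟨q, hq, fun s hs hsk => (h1 s hs hsk).resolve_left fun e => hpk (e ▸ hsk)⟩
  by_cases hqk : q ∣ k
  swap
  · exact ⟨p, hp, fun s hs hsk => (h1 s hs hsk).resolve_right fun e => hqk (e ▸ hsk)⟩
  by_cases hqp : q = p
  · exact ⟨p, hp, fun s hs hsk => (h1 s hs hsk).elim id fun e => e.trans hqp⟩
  exfalso
  -- no further prime has noncentral elements in the centralizer
  have hno : ∀ r, r.Prime → r ≠ p → r ≠ q → ∀ a ∈ C[u], PEl r a → a ∈ center G := by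
    intro r hr hrp hrq a ha har
    by_contra haZ
    have ea := eq_of_cent_le h haZ hun (h2 r hr hrp hrq a ha har)
    obtain ⟨s, hs, w', hw', hws, hwnc⟩ :
        ∃ s, s.Prime ∧ ∃ w' ∈ C[u], PEl s w' ∧ ¬ C[u] ≤ C[w'] := by
      by_contra hcon
      push Not at hcon
      refine hne ?_
      obtain ⟨i, hi⟩ := hu
      rw [cent_mul (mem_cent.1 hw).symm ((hwp.symm.pow_left i).coprime_dvd_left hi), inf_eq_left]
      intro c hc
      refine mem_cent_symm ?_
      by_contra hnot
      obtain ⟨s, hs, w', hw', hws, hn'⟩ := exists_part (K := C[c]) hnot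
      exact hn' (mem_cent_symm (hcon s hs w' (zpowers_le.2 hw hw') hws hc))
    have hsr : s ≠ r := fun e => hwnc (h2 r hr hrp hrq w' hw' (e ▸ hws))
    have hw'r : Reg r w' := hws.reg hs hr hsr
    have hne' : C[a * w'] ≠ C[a] := by
      intro e
      refine hwnc (ea.le.trans ?_)
      rw [cent_mul (mem_cent.1 (ea ▸ hw' : w' ∈ C[a])).symm (har.coprime hr hs (Ne.symm hsr) hws),
        inf_eq_left] at e
      exact e
    rcases structure_lemma h hr har haZ (ea ▸ hun) hk (ea ▸ hw') hw'r hne' with h3 | ⟨q', -, h3, -⟩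
    · exact hrp (h3 p hp hpk).symm
    · rcases h3 p hp hpk with e | e
      · exact hrp e.symm
      · rcases h3 q hq hqk with e' | e'
        · exact hrq e'.symm
        · exact hqp (e'.trans e.symm)
  refine h.nsol (isSolvable_of_center_index hp hq fun r hr hrd => ?_)
  by_contra hr'
  push Not at hr'
  obtain ⟨a, har, haZ⟩ := exists_pel_of_dvd_center_index hr hrd
  have := Fact.mk hr
  have hrk : ¬ r ∣ k := fun hd => (h1 r hr hd).elim hr'.1 hr'.2
  obtain ⟨v, hv, hvZ, hvr⟩ := exists_noncentral_part (x := u) har haZ (self_mem_cent a)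
    (center_le_centralizer _) (by
      have e1 := C[a].card_mul_index
      have e2 := C[u].card_mul_index
      rw [hun] at e2
      rcases h.idx a haZ with e | e
      · rw [card_eq_of_index (e.trans hun.symm)]
      · rw [e, ← hk] at e1
        have e3 : Nat.card C[a] * k = Nat.card C[u] :=
          Nat.eq_of_mul_eq_mul_right (Nat.zero_lt_of_lt h.one_lt) (by rw [e2, ← e1]; ring)
        rw [← e3, Nat.factorization_mul Nat.card_pos.ne' (Nat.zero_lt_of_lt (k_ne_one h hk)).ne',
          Finsupp.add_apply]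
        exact Nat.le_add_right _ _)
  exact hvZ (hno r hr hr'.1 hr'.2 v hv hvr)

theorem false_of_chain (h : Hyp G n m) (hxZ : x ∉ center G) (hyZ : y ∉ center G) (hlt : C[x] < C[y]) :
    False := by
  obtain ⟨⟨k, hk⟩, p₀, u₀, w₀, hp₀, hu₀, hu₀Z, hu₀n, hw₀, hw₀p, hne₀⟩ := exists_witness h hxZ hyZ hlt
  obtain ⟨q, hq, hqk⟩ := single_prime h hk hp₀ hu₀ hu₀Z hu₀n hw₀ hw₀p hne₀
  have hk1 := k_ne_one h hk
  have hqd : q ∣ k := by
    obtain ⟨s, hs, hsk⟩ := Nat.exists_prime_and_dvd hk1.ne'
    exact hqk s hs hsk ▸ hsk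
  -- the part of a centralizer prime to `q`
  have hconst : ∀ r, r.Prime → r ≠ q → ∀ a b : G, a ∉ center G → b ∉ center G →
      (Nat.card C[a]).factorization r = (Nat.card C[b]).factorization r := by
    intro r hr hrq
    have hg : ∀ a : G, a ∉ center G →
        (Nat.card C[a]).factorization r + n.factorization r = (Nat.card G).factorization r := by
      intro a ha
      rw [← C[a].card_mul_index, Nat.factorization_mul Nat.card_pos.ne' index_ne_zero_of_finite,
        Finsupp.add_apply]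
      rcases h.idx a ha with e | e
      · rw [e]
      · rw [e, ← hk, Nat.factorization_mul (Nat.zero_lt_of_lt h.one_lt).ne' (Nat.zero_lt_of_lt hk1).ne',
          Finsupp.add_apply, Nat.factorization_eq_zero_of_not_dvd (fun hd => hrq (hqk r hr hd)), add_zero]
    intro a b ha hb
    have := hg a ha
    have := hg b hb
    omega
  -- two further primes
  let π : ℕ → Prop := fun r => r.Prime ∧ r ≠ q ∧ ∃ a, PEl r a ∧ a ∉ center G
  have htwo : ∀ r₀ : ℕ, r₀.Prime → ∃ r, π r ∧ r ≠ r₀ := by
    intro r₀ hr₀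
    by_contra hcon
    push Not at hcon
    refine h.nsol (isSolvable_of_center_index hq hr₀ fun s hs hsd => ?_)
    by_contra hne
    push Not at hne
    exact hne.2 (hcon s ⟨hs, hne.1, exists_pel_of_dvd_center_index hs hsd⟩)
  have hmem : ∀ r, π r → ∀ g : G, g ∉ center G → ∃ w ∈ C[g], w ∉ center G ∧ PEl r w := by
    rintro r ⟨hr, hrq, a, ha, haZ⟩ g hg
    have := Fact.mk hr
    exact exists_noncentral_part ha haZ (self_mem_cent a) (center_le_centralizer _)
      (hconst r hr hrq a g haZ hg).le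
  have hdvd : ∀ r, π r → ∀ g : G, g ∉ center G → r ∣ C[g].index := by
    rintro r ⟨hr, hrq, a, ha, haZ⟩ g hg
    by_contra hd
    have := Fact.mk hr
    obtain ⟨R₀⟩ := (inferInstance : Nonempty (Sylow r G))
    have hc : centralizer ((R₀ : Subgroup G) : Set G) ≠ ⊤ := by
      intro e
      refine haZ ?_
      obtain ⟨R, hR⟩ := (TwoClassSizes.Normal.isPGroup_zpowers ha).exists_le_sylow
      obtain ⟨c, hc⟩ := MulAction.exists_smul_eq G R₀ R
      have haR : a ∈ (R : Subgroup G) := hR (mem_zpowers a)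
      rw [← hc, Sylow.coe_subgroup_smul] at haR
      obtain ⟨b, hb, rfl⟩ := haR
      refine (inferInstance : (center G).Normal).conj_mem b (mem_center_iff.2 fun d => ?_) c
      exact ((mem_centralizer_iff.1 (e ▸ mem_top d)) b hb).symm
    obtain ⟨z, hz⟩ := FTCons.exists_not_conj_mem hc
    have hzZ : z ∉ center G := fun h' => hz 1 (by simpa using center_le_centralizer _ h')
    obtain ⟨W⟩ := (inferInstance : Nonempty (Sylow r C[z]))
    obtain ⟨R, hR⟩ := (W.isPGroup'.map C[z].subtype).exists_le_sylow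
    have hzd : C[z].index.factorization r = 0 := by
      have e1 := congrArg (fun j : ℕ => j.factorization r) C[z].card_mul_index
      have e2 := congrArg (fun j : ℕ => j.factorization r) C[g].card_mul_index
      simp only [Nat.factorization_mul Nat.card_pos.ne' index_ne_zero_of_finite, Finsupp.add_apply,
        Nat.factorization_eq_zero_of_not_dvd hd, hconst r hr hrq z g hzZ hg] at e1 e2
      omega
    have hRz : (R : Subgroup G) ≤ C[z] := by
      rw [← eq_of_le_of_card_ge hR ?_]
      · exact map_subtype_le _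
      · rw [card_map_of_injective C[z].subtype_injective, W.card_eq_multiplicity, R.card_eq_multiplicity,
          ← C[z].card_mul_index, Nat.factorization_mul Nat.card_pos.ne' index_ne_zero_of_finite,
          Finsupp.add_apply, hzd, add_zero]
    obtain ⟨c, hc'⟩ := MulAction.exists_smul_eq G R₀ R
    apply hz c
    refine mem_centralizer_iff.2 fun b hb => ?_
    have hb' : c * b * c⁻¹ ∈ C[z] := hRz (by
      rw [← hc', Sylow.coe_subgroup_smul]
      exact ⟨b, hb, rfl⟩)
    calc b * (c⁻¹ * z * c) = c⁻¹ * (c * b * c⁻¹ * z) * c := by group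
      _ = c⁻¹ * (z * (c * b * c⁻¹)) * c := by rw [mem_cent.1 hb']
      _ = c⁻¹ * z * c * b := by group
  -- equality of centralizers
  have hle : ∀ r s, π r → π s → r ≠ s → ∀ u w : G, PEl r u → PEl s w → u ∉ center G →
      w ∉ center G → w ∈ C[u] → C[u] ≤ C[w] := by
    rintro r s ⟨hr, hrq, -⟩ ⟨hs, hsq, -⟩ hne u w hu hw huZ hwZ hwu
    have hc : Commute u w := (mem_cent.1 hwu).symm
    have hcop := hu.coprime hr hs hne hw
    by_contra hnle
    have hne' : C[u * w] ≠ C[u] := fun e => hnle (by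
      rw [cent_mul hc hcop, inf_eq_left] at e
      exact e)
    have hun : C[u].index = n := by
      rcases h.idx u huZ with e | e
      · exact e
      exfalso
      have hd := index_dvd_of_le ((cent_mul hc hcop).le.trans inf_le_left)
      refine hne' (eq_of_le_of_index ((cent_mul hc hcop).le.trans inf_le_left) ?_)
      rcases h.idx _ (mul_not_mem_center hc hcop huZ) with e' | e'
      · rw [e, e'] at hd
        have := Nat.le_of_dvd (Nat.zero_lt_of_lt h.one_lt) hd
        have := h.lt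
        omega
      · rw [e, e']
    rcases structure_lemma h hr hu huZ hun hk hwu (hw.reg hs hr (Ne.symm hne)) hne' with h1 | ⟨q', -, h1, h2⟩
    · exact hrq (h1 q hq hqd).symm
    · have e : q = q' := (h1 q hq hqd).resolve_left (Ne.symm hrq)
      exact hnle (h2 s hs (Ne.symm hne) (e ▸ hsq) w hwu hw)
  obtain ⟨r, hr, -⟩ := htwo q hq
  obtain ⟨s, hs, hsr⟩ := htwo r hr.1
  obtain ⟨a, ha, haZ⟩ := hr.2.2
  have hCon : ∀ t, π t → CentOn t C[a] := by
    intro t ht v hv hvZ hvt
    refine cent_eq_of_cross (π := π) (fun p hp hpπ x hx hxZ => ?_) ?_ hr.1 ht.1 hr ht ha hvt haZ hvZ hv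
    · obtain ⟨t', ht', hne⟩ := htwo p hp
      exact ⟨t', ht'.1, ht', hne, hmem t' ht' x hxZ⟩
    · intro p t' _ _ hpπ ht'π hne x w hx hw hxZ hwZ hwx
      exact le_antisymm (hle t' p ht'π hpπ (Ne.symm hne) w x hw hx hwZ hxZ (mem_cent_symm hwx))
        (hle p t' hpπ ht'π hne x w hx hw hxZ hwZ hwx)
  have := Fact.mk hr.1
  have := Fact.mk hs.1
  exact false_of_two_primes hr.1 hs.1 (Ne.symm hsr) (hCon r hr) (hmem r hr a haZ)
    (exists_outside (hCon r hr) (hmem r hr a haZ) (hdvd r hr a haZ)) (hCon s hs) (hmem s hs a haZ)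
    (exists_outside (hCon s hs) (hmem s hs a haZ) (hdvd s hs a haZ))

end Cfsg.Agent.ItoThree
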